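import Groth.Agent.Lib.EulerConst10.Main
import Groth.Agent.Lib.BCCoh.FlatBC
import Groth.Agent.Lib.FibreBC.Basic

/-!
# Base change of the Euler characteristic of the fibres
-/

set_option autoImplicit false
set_option linter.all false
set_option backward.isDefEq.respectTransparency false
set_option maxHeartbeats 1000000

universe u

open CategoryTheory CategoryTheory.Limits AlgebraicGeometry Opposite TopologicalSpace
open GrothLib.Euler (tF)

noncomputable section

namespace GrothLib.EulerConst10

/-- The Euler characteristic does not change along a field extension. -/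
theorem euler_isPullback {k K : Type u} [Field k] [Field K] (φ : k →+* K) {Z Z' : Scheme.{u}}
    (p : Z ⟶ Spec (CommRingCat.of k)) (q : Z' ⟶ Spec (CommRingCat.of K)) (i : Z' ⟶ Z)
    (H : IsPullback i q p (Spec.map (CommRingCat.ofHom φ))) [IsProper p] (M : Z.Modules)
    [M.IsQuasicoherent] :
    @Curv2.euler K _ Z' ⟨q⟩ ((Scheme.Modules.pullback i).obj M) = @Curv2.euler k _ Z ⟨p⟩ M := by
  letI : Z.Over (Spec (CommRingCat.of k)) := ⟨p⟩
  letI : Z'.Over (Spec (CommRingCat.of K)) := ⟨q⟩
  haveI : IsProper (Z ↘ Spec (CommRingCat.of k)) := ‹IsProper p›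
  haveI := Euler.isNoetherian_of_proper (X := Z) k
  haveI : Z.IsSeparated := ⟨by rw [← terminal.comp_from p]; infer_instance⟩
  unfold Curv2.euler
  refine finsum_congr fun j => ?_
  congr 2
  obtain ⟨e⟩ := BCCoh.exists_flatBC φ
    (show φ.Flat from letI := φ.toAlgebra; inferInstanceAs (Module.Flat k K)) p q i H M j
  letI := φ.toAlgebra
  letI := BCCoh.modHH p M j
  letI := BCCoh.modHH q ((Scheme.Modules.pullback i).obj M) j
  have h1 := e.finrank_eq
  rw [Module.finrank_baseChange] at h1
  exact h1.symm

variable {X S X' S' : Scheme.{u}}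

/-- **The Euler characteristic of the fibres commutes with base change.** -/
theorem fibEuler_baseChange {f : X ⟶ S} {g : S' ⟶ S} {f' : X' ⟶ S'} {g' : X' ⟶ X}
    (hc : IsPullback g' f' f g) [IsProper f] (F : X.Modules) [F.IsQuasicoherent] (s' : S') :
    fibEuler f' ((Scheme.Modules.pullback g').obj F) s' = fibEuler f F (g s') := by
  obtain ⟨i, hi, H⟩ := FibreBC.exists_isPullback_fiber hc s'
  let e : (Scheme.Modules.pullback i).obj ((Scheme.Modules.pullback (f.fiberι (g s'))).obj F) ≅
      (Scheme.Modules.pullback (f'.fiberι s')).obj ((Scheme.Modules.pullback g').obj F) :=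
    (Scheme.Modules.pullbackComp i (f.fiberι (g s'))).app F ≪≫
      (Scheme.Modules.pullbackCongr hi).app F ≪≫
      ((Scheme.Modules.pullbackComp (f'.fiberι s') g').app F).symm
  haveI : IsProper (f.fiberToSpecResidueField (g s')) :=
    MorphismProperty.pullback_snd (P := @IsProper) f (S.fromSpecResidueField (g s')) ‹IsProper f›
  haveI := FittSheaf.isQuasicoherent_pullback (f.fiberι (g s')) F
  refine (@Euler.euler_of_iso (f'.fiber s') (S'.residueField s') _ ⟨f'.fiberToSpecResidueField s'⟩ _ _ e).symm.trans ?_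
  exact euler_isPullback (g.residueFieldMap s').hom (f.fiberToSpecResidueField (g s'))
    (f'.fiberToSpecResidueField s') i H _

/-- Pullback commutes with the twists. -/
theorem nonempty_pullback_tensorPows (g : X' ⟶ X) (F : X.Modules) {t : ℕ} (L : Fin t → X.Modules)
    (hL : ∀ i, PicF.IsInvertible (L i)) (n : Fin t → ℕ) :
    Nonempty ((Scheme.Modules.pullback g).obj (Curv2.tensorPows F t L n) ≅
      Curv2.tensorPows ((Scheme.Modules.pullback g).obj F) t
        (fun i => (Scheme.Modules.pullback g).obj (L i)) n) := by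
  obtain ⟨e⟩ := Snapper.nonempty_tensorPows_iso F t L n
  obtain ⟨e'⟩ := Snapper.nonempty_pullback_invPows g t L hL n
  obtain ⟨e''⟩ := Snapper.nonempty_tensorPows_iso ((Scheme.Modules.pullback g).obj F) t
    (fun i => (Scheme.Modules.pullback g).obj (L i)) n
  exact ⟨(Scheme.Modules.pullback g).mapIso e ≪≫ OX.pullTensorIso g F _ ≪≫
      ((DCoh.tensorBi (X := X')).obj _).mapIso e' ≪≫ e''.symm⟩

/-- Twists of finitely presented modules are finitely presented. -/
theorem isFP_tensorPows {F : X.Modules} (hF : CohB1.IsFP F) {t : ℕ} (L : Fin t → X.Modules)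
    (hL : ∀ i, PicF.IsInvertible (L i)) (n : Fin t → ℕ) : CohB1.IsFP (Curv2.tensorPows F t L n) := by
  obtain ⟨e⟩ := Snapper.nonempty_tensorPows_iso F t L n
  exact (SheafOfModules.isFinitePresentation X.ringCatSheaf).prop_of_iso e.symm
    (isFP_tF (Snapper.isInvertible_invPows t L hL n) hF)

theorem fibEuler_tensorPows_baseChange {f : X ⟶ S} {g : S' ⟶ S} {f' : X' ⟶ S'} {g' : X' ⟶ X}
    (hc : IsPullback g' f' f g) [IsProper f] {F : X.Modules} (hF : CohB1.IsFP F) {t : ℕ}
    (L : Fin t → X.Modules) (hL : ∀ i, PicF.IsInvertible (L i)) (n : Fin t → ℕ) (s' : S') :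
    fibEuler f' (Curv2.tensorPows ((Scheme.Modules.pullback g').obj F) t
        (fun i => (Scheme.Modules.pullback g').obj (L i)) n) s' =
      fibEuler f (Curv2.tensorPows F t L n) (g s') := by
  obtain ⟨e⟩ := nonempty_pullback_tensorPows g' F L hL n
  haveI := SemiPrufer.qcoh_of_isFP (isFP_tensorPows hF L hL n)
  rw [← fibEuler_congr f' e s', fibEuler_baseChange hc]

end GrothLib.EulerConst10
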