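import Groth.Agent.Lib.EulerConst10.Algebra
import Groth.Agent.Lib.BCCrit.ModelExists
import Groth.Agent.Lib.BCCoh.ModelAffine
import Groth.Agent.Lib.FlatTensor.Tensor
import Groth.Agent.Lib.Seesaw26.LocalGood
import Groth.Agent.Lib.SemiPrufer.SheafFP
import Groth.Agent.Lib.Snapper.Polynomial
import Groth.Agent.Lib.FibreDim5.Basic
import Groth.Agent.Lib.Euler.CurveVanish
import Groth.Agent.Lib.FunFlat6.Point

/-!
# The Euler characteristic of the fibres of a flat family is locally constant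
-/

set_option autoImplicit false
set_option linter.all false
set_option backward.isDefEq.respectTransparency false
set_option maxHeartbeats 1000000

universe u

open CategoryTheory CategoryTheory.Limits AlgebraicGeometry Opposite TopologicalSpace
open GrothLib.Euler (tF)

noncomputable section

namespace GrothLib.EulerConst10

variable {X S : Scheme.{u}} (f : X ⟶ S)

/-- The Euler characteristic of the fibre over `s`. -/
def fibEuler (F : X.Modules) (s : S) : ℤ :=
  @Curv2.euler (S.residueField s) _ (f.fiber s) ⟨f.fiberToSpecResidueField s⟩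
    ((Scheme.Modules.pullback (f.fiberι s)).obj F)

theorem fibEuler_congr {F G : X.Modules} (e : F ≅ G) (s : S) : fibEuler f F s = fibEuler f G s :=
  @Euler.euler_of_iso (f.fiber s) (S.residueField s) _ ⟨f.fiberToSpecResidueField s⟩ _ _
    ((Scheme.Modules.pullback (f.fiberι s)).mapIso e)

/-- Twisting by an invertible module keeps finite presentation. -/
theorem isFP_tF {N F : X.Modules} (hN : PicF.IsInvertible N) (hF : CohB1.IsFP F) :
    CohB1.IsFP ((tF N).obj F) := by
  haveI := SemiPrufer.qcoh_of_isFP hF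
  obtain ⟨c, ⟨e⟩⟩ := Ample.exists_cocycle hN
  obtain ⟨q⟩ := c.nonempty_tensor_modTwist F 1
  exact (SheafOfModules.isFinitePresentation X.ringCatSheaf).prop_of_iso
    (((DCoh.tensorBi (X := X)).obj F).mapIso e ≪≫ q).symm (SemiPrufer.isFP_modTwist c F hF 1)

/-- Twisting by an invertible module keeps flatness. -/
theorem isFlatOver_tF {N F : X.Modules} (hN : PicF.IsInvertible N) (hfl : FlatMod.IsFlatOver f F) :
    FlatMod.IsFlatOver f ((tF N).obj F) := by
  intro x
  have h1 := (FlatTensor.tensor_pullback_stalk (𝟙 X) f N F x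
    (Seesaw26.isFlatOver_of_isInvertible (𝟙 X) hN x)).1 (hfl x)
  have e : CohB1.tensorMod N ((Scheme.Modules.pullback (𝟙 X)).obj F) ≅ (tF N).obj F :=
    ((DCoh.tensorBi (X := X)).obj N).mapIso ((Scheme.Modules.pullbackId X).app F) ≪≫
      (((OX.tensorBraiding (X := X)).app N).app F).symm
  have h2 := (FlatFP.isFlatOverAt_congr (𝟙 X ≫ f) e x).1 h1
  exact (FunFlat6.isFlatOverAt_congr_map (Category.id_comp f) _ x).1 h2

/-- Fibrewise dimension bound over an affine open of the base. -/
theorem exists_dim_fiber_le_on {V : S.Opens} (hV : IsAffineOpen V) [LocallyOfFiniteType f]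
    [QuasiCompact f] :
    ∃ d : ℕ, ∀ s ∈ V, topologicalKrullDim ↥(f.fiber s) ≤ (d : WithBot ℕ∞) := by
  classical
  obtain ⟨ι, _, W, hWa, hW, hcov⟩ := FibreDim6.exists_finite_cover f hV
  haveI : IsAffine V.toScheme := hV
  have : ∀ i, ∃ n : ℕ, ∀ s : V.toScheme,
      topologicalKrullDim ↥((f.resLE V (W i) (hW i)).fiber s) ≤ (n : WithBot ℕ∞) := fun i => by
    haveI : IsAffine (W i).toScheme := hWa i
    exact FibreDim5.exists_dim_fiber_le_affine _
  choose n hn using this
  letI := Fintype.ofFinite ι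
  refine ⟨Finset.univ.sup n, fun s hs => ?_⟩
  show topologicalKrullDim ↥(f.fiber (V.ι ⟨s, hs⟩)) ≤ _
  rw [FibreDim6.dim_fiber_eq_iSup f V W hW hcov ⟨s, hs⟩]
  exact iSup_le fun i => (hn i _).trans (by exact_mod_cast Finset.le_sup (Finset.mem_univ i))

/-- **For a single sheaf, the Euler characteristic of the fibres is locally constant.** -/
theorem exists_nhd_euler_eq [IsProper f] [LocallyOfFinitePresentation f] (F : X.Modules)
    (hF : CohB1.IsFP F) (hfl : FlatMod.IsFlatOver f F) (s : S) :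
    ∃ U : S.Opens, s ∈ U ∧ ∀ s' ∈ U, fibEuler f F s' = fibEuler f F s := by
  haveI := SemiPrufer.qcoh_of_isFP hF
  obtain ⟨V, hV, hsV, -⟩ := exists_isAffineOpen_mem_and_subset (x := s) (U := (⊤ : S.Opens)) trivial
  obtain ⟨m⟩ := BCCrit.nonempty_model_affine_fp f hV F hF hfl
  haveI : ∀ i, Module.Finite Γ(S, V) (m.L.X i) := fun i => (m.finFree i).1
  haveI : ∀ i, Module.Projective Γ(S, V) (m.L.X i) := fun i => by
    haveI := (m.finFree i).2
    infer_instance
  let b := m.bound.toNat
  have hneg : ∀ x, CohIII.dRank m.L (-1) x = 0 := fun x =>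
    dRank_eq_zero_of_isZero_T m.L (-1) x (m.isZero_T_neg (by omega) _)
  have hhigh : ∀ (p : ℕ) x, m.bound ≤ (p : ℤ) → CohIII.dRank m.L (p : ℤ) x = 0 := fun p x hp => by
    refine dRank_eq_zero_of_isZero_T m.L (p : ℤ) x ?_
    exact (m.high _ (p : ℤ) hp).of_iso ((m.toCech (p : ℤ)).app _)
  have hb : m.bound ≤ (b : ℤ) := Int.self_le_toNat m.bound
  have heq : ∀ (s' : S) (hs' : s' ∈ V), fibEuler f F s' = altSum m.L b (hV.primeIdealOf ⟨s', hs'⟩) := by
    intro s' hs'
    show ∑ᶠ i : ℕ, (-1 : ℤ) ^ i * (CohIII.fiberRank f F i s' : ℤ) = _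
    simp only [fun i => BCCoh.Model.fiberRank_affine f hV F m i s' hs']
    refine finsum_eq_sum_of_support_subset _ fun i hi => ?_
    rw [Finset.coe_range, Set.mem_Iio]
    by_contra hlt
    exact hi (by simp [hhigh i _ (hb.trans (by omega))])
  have hev := eventually_altSum_eq m.L b hneg (fun x => hhigh b x hb) (hV.primeIdealOf ⟨s, hsV⟩)
  obtain ⟨T, hT, hTo, hsT⟩ := eventually_nhds_iff.1 hev
  refine ⟨V.ι ''ᵁ (hV.isoSpec.hom ⁻¹ᵁ ⟨T, hTo⟩), ⟨⟨s, hsV⟩, hsT, rfl⟩, ?_⟩
  rintro _ ⟨z, hz, rfl⟩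
  show fibEuler f F z.1 = fibEuler f F s
  rw [heq z.1 z.2, heq s hsV]
  exact hT _ hz

/-- The twisted Euler characteristics of a fibre are polynomial of degree bounded by its dimension. -/
theorem fibEuler_mem_polyLT [IsProper f] (F : X.Modules) (hF : CohB1.IsFP F) {t : ℕ}
    (L : Fin t → X.Modules) (hL : ∀ i, PicF.IsInvertible (L i)) (s : S) {d : ℕ}
    (hd : topologicalKrullDim ↥(f.fiber s) ≤ (d : WithBot ℕ∞)) :
    (fun n : Fin t → ℕ => (fibEuler f (Curv2.tensorPows F t L n) s : ℚ)) ∈ Snapper.polyLT t (d + 1) := by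
  haveI := SemiPrufer.qcoh_of_isFP hF
  let ι := f.fiberι s
  let G := (Scheme.Modules.pullback ι).obj F
  let L' : Fin t → (f.fiber s).Modules := fun i => (Scheme.Modules.pullback ι).obj (L i)
  letI : (f.fiber s).Over (Spec (CommRingCat.of (S.residueField s))) := ⟨f.fiberToSpecResidueField s⟩
  haveI : IsProper ((f.fiber s) ↘ Spec (CommRingCat.of (S.residueField s))) :=
    MorphismProperty.pullback_snd (P := @IsProper) f (S.fromSpecResidueField s) ‹IsProper f›
  have hG : Coh.IsCoh G := by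
    have h : CohB1.IsFP G := FittSheaf.isFP_pullback ι F hF
    haveI : SheafOfModules.IsFinitePresentation (R := (f.fiber s).ringCatSheaf) G := h
    exact ⟨SemiPrufer.qcoh_of_isFP h, inferInstance⟩
  have hL' : ∀ i, PicF.IsInvertible (L' i) := fun i => Ample.isInvertible_pullback ι (hL i)
  have hdim : Snapper.DimLT (CohB1.support G) (d + 1) := by
    refine (Snapper.dimLT_of_dim_le (S := (Set.univ : Set ↥(f.fiber s))) ?_).mono (Set.subset_univ _)
    exact (IsHomeomorph.topologicalKrullDim_eq _ (Homeomorph.Set.univ ↥(f.fiber s)).isHomeomorph).trans_le hd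
  have h := Snapper.phi_mem_polyLT (S.residueField s) hL' (d + 1) G hG hdim
  convert h using 1
  funext n
  obtain ⟨e⟩ := Snapper.nonempty_tensorPows_iso F t L n
  obtain ⟨e'⟩ := Snapper.nonempty_pullback_invPows ι t L hL n
  show ((fibEuler f (Curv2.tensorPows F t L n) s : ℤ) : ℚ) =
    ((Curv2.euler (S.residueField s) (f.fiber s) ((tF (Snapper.invPows t L' n)).obj G) : ℤ) : ℚ)
  exact congrArg Int.cast (Euler.euler_of_iso (S.residueField s)
    ((Scheme.Modules.pullback ι).mapIso e ≪≫ OX.pullTensorIso ι F _ ≪≫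
      ((DCoh.tensorBi (X := f.fiber s)).obj G).mapIso e'))

/-- **The Snapper polynomial of the fibres is locally constant.** -/
theorem exists_nhd_forall_euler_eq [IsProper f] [LocallyOfFinitePresentation f] (F : X.Modules)
    (hF : CohB1.IsFP F) (hfl : FlatMod.IsFlatOver f F) {t : ℕ} (L : Fin t → X.Modules)
    (hL : ∀ i, PicF.IsInvertible (L i)) (s : S) :
    ∃ U : S.Opens, s ∈ U ∧ ∀ s' ∈ U, ∀ n : Fin t → ℕ,
      fibEuler f (Curv2.tensorPows F t L n) s' = fibEuler f (Curv2.tensorPows F t L n) s := by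
  obtain ⟨V, hV, hsV, -⟩ := exists_isAffineOpen_mem_and_subset (x := s) (U := (⊤ : S.Opens)) trivial
  obtain ⟨d, hd⟩ := exists_dim_fiber_le_on f hV
  have h : ∀ n : Fin t → Fin (d + 1), ∃ U : S.Opens, s ∈ U ∧ ∀ s' ∈ U,
      fibEuler f (Curv2.tensorPows F t L fun i => (n i : ℕ)) s' =
        fibEuler f (Curv2.tensorPows F t L fun i => (n i : ℕ)) s := by
    intro n
    obtain ⟨e⟩ := Snapper.nonempty_tensorPows_iso F t L fun i => (n i : ℕ)
    have hN := Snapper.isInvertible_invPows t L hL fun i => (n i : ℕ)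
    obtain ⟨U, hs, hU⟩ := exists_nhd_euler_eq f ((tF _).obj F) (isFP_tF hN hF) (isFlatOver_tF f hN hfl) s
    exact ⟨U, hs, fun s' h => by rw [fibEuler_congr f e, fibEuler_congr f e, hU s' h]⟩
  choose U hsU hU using h
  have hopen : IsOpen ((V : Set S) ∩ ⋂ n, (U n : Set S)) := V.2.inter (isOpen_iInter_of_finite fun n => (U n).2)
  refine ⟨⟨_, hopen⟩, ⟨hsV, Set.mem_iInter.2 hsU⟩, fun s' hs' n => ?_⟩
  have key := eq_of_eq_on_box (fibEuler_mem_polyLT f F hF L hL s' (hd s' hs'.1))
    (fibEuler_mem_polyLT f F hF L hL s (hd s hsV))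
    (fun n => congrArg Int.cast (hU n s' (Set.mem_iInter.1 hs'.2 n)))
  exact_mod_cast congrFun key n

end GrothLib.EulerConst10
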