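import Groth.Agent.Lib.EulerConst10.BaseChange
import Groth.Agent.Lib.FlatStrat.Main

/-!
# Finitely many Snapper polynomials occur among the fibres
-/

set_option autoImplicit false
set_option linter.all false
set_option backward.isDefEq.respectTransparency false
set_option maxHeartbeats 1000000

universe u

open CategoryTheory CategoryTheory.Limits AlgebraicGeometry Opposite TopologicalSpace

noncomputable section

namespace GrothLib.EulerConst10

/-- Strata over an affine scheme are quasi-compact. -/
theorem compactSpace_stratum {S : Scheme.{u}} [IsAffine S] (K L : S.IdealSheafData)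
    (hL : ∀ U : S.affineOpens, (L.ideal U).FG) :
    CompactSpace ↥((K.subschemeι ⁻¹ᵁ L.support.compl).toScheme) := by
  let U : S.affineOpens := ⟨⊤, isAffineOpen_top S⟩
  obtain ⟨s, hs⟩ := hL U
  have hcompl : (L.support.compl : Set S) = ⋃ a ∈ s, (S.basicOpen (show Γ(S, ⊤) from a) : Set S) := by
    ext x
    have h := Scheme.IdealSheafData.mem_support_iff_of_mem (I := L) (U := U) (x := x) trivial
    simp only [TopologicalSpace.Closeds.compl, Opens.coe_mk, Set.mem_compl_iff, SetLike.mem_coe, h,
      Scheme.mem_zeroLocus_iff, Set.mem_iUnion, exists_prop]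
    constructor
    · intro hx
      by_contra hne
      push Not at hne
      apply hx
      rw [← hs]
      intro a ha
      induction ha using Submodule.span_induction with
      | mem a ha => exact hne a ha
      | zero => simp
      | add a b _ _ iha ihb => exact fun h => (S.basicOpen_add_le a b h).elim iha ihb
      | smul r a _ iha =>
        intro h
        rw [smul_eq_mul, Scheme.basicOpen_mul] at h
        exact iha h.2
    · rintro ⟨a, ha, hxa⟩ hx
      exact hx a (hs ▸ Submodule.subset_span ha) hxa
  have hc : IsCompact (L.support.compl : Set S) := by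
    rw [hcompl]
    exact s.finite_toSet.isCompact_biUnion fun a _ => ((isAffineOpen_top S).basicOpen _).isCompact
  exact isCompact_iff_compactSpace.1 (QuasiCompact.isCompact_preimage _ L.support.compl.isOpen hc)

/-- Over a quasi-compact base with flat fibres finitely many Snapper polynomials occur. -/
theorem finite_range_of_flat {X S : Scheme.{u}} [CompactSpace S] (f : X ⟶ S) [IsProper f]
    [LocallyOfFinitePresentation f] (F : X.Modules) (hF : CohB1.IsFP F)
    (hfl : FlatMod.IsFlatOver f F) {t : ℕ} (L : Fin t → X.Modules) (hL : ∀ i, PicF.IsInvertible (L i)) :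
    (Set.range fun s : S => fun n : Fin t → ℕ => fibEuler f (Curv2.tensorPows F t L n) s).Finite := by
  refine IsLocallyConstant.range_finite ((IsLocallyConstant.iff_exists_open _).2 fun s => ?_)
  obtain ⟨U, hs, hU⟩ := exists_nhd_forall_euler_eq f F hF hfl L hL s
  exact ⟨U, U.2, hs, fun s' h => funext fun n => hU s' h n⟩

/-- **Finitely many Snapper polynomials occur.** -/
theorem finite_range_fibEuler {X S : Scheme.{u}} [CompactSpace S] (f : X ⟶ S) [IsProper f]
    [LocallyOfFinitePresentation f] (F : X.Modules) (hF : CohB1.IsFP F) {t : ℕ}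
    (L : Fin t → X.Modules) (hL : ∀ i, PicF.IsInvertible (L i)) :
    (Set.range fun s : S => fun n : Fin t → ℕ => fibEuler f (Curv2.tensorPows F t L n) s).Finite := by
  let Φ : S → (Fin t → ℕ) → ℤ := fun s n => fibEuler f (Curv2.tensorPows F t L n) s
  let 𝒰 := S.affineCover.finiteSubcover
  have key : ∀ i : 𝒰.I₀, (Φ '' Set.range (𝒰.f i)).Finite := by
    intro i
    let g := 𝒰.f i
    haveI : IsAffine (𝒰.X i) := by dsimp [𝒰]; infer_instance
    let f₁ := pullback.snd f g
    let F₁ := (Scheme.Modules.pullback (pullback.fst f g)).obj F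
    let L₁ : Fin t → (pullback f g).Modules := fun j => (Scheme.Modules.pullback (pullback.fst f g)).obj (L j)
    have hF₁ : CohB1.IsFP F₁ := FittSheaf.isFP_pullback _ F hF
    have hL₁ : ∀ j, PicF.IsInvertible (L₁ j) := fun j => Ample.isInvertible_pullback _ (hL j)
    haveI := SemiPrufer.qcoh_of_isFP hF₁
    obtain ⟨m, I, hmono, hlast, hfirst, hfg, hstep⟩ := FlatStrat.exists_stratification f₁ F₁ hF₁
    have hj : ∀ j : Fin m, (Φ '' Set.range (FlatStrat.stratumι (I j.castSucc) (I j.succ) ≫ g)).Finite := by
      intro j
      let ι := FlatStrat.stratumι (I j.castSucc) (I j.succ)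
      haveI := compactSpace_stratum (I j.castSucc) (I j.succ) (hfg j.succ)
      let L₂ : Fin t → (pullback f₁ ι).Modules := fun k => (Scheme.Modules.pullback (pullback.fst f₁ ι)).obj (L₁ k)
      have hfin := finite_range_of_flat (pullback.snd f₁ ι) _ (FittSheaf.isFP_pullback _ F₁ hF₁)
        (hstep j).2.2.2 L₂ (fun k => Ample.isInvertible_pullback _ (hL₁ k))
      refine hfin.subset ?_
      rintro _ ⟨_, ⟨x, rfl⟩, rfl⟩
      refine ⟨x, funext fun n => ?_⟩
      show fibEuler _ _ x = fibEuler f _ ((ι ≫ g) x)
      rw [fibEuler_tensorPows_baseChange (IsPullback.of_hasPullback f₁ ι) hF₁ L₁ hL₁ n x,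
        fibEuler_tensorPows_baseChange (IsPullback.of_hasPullback f g) hF L hL n]
      rfl
    refine (Set.finite_iUnion hj).subset ?_
    rintro _ ⟨_, ⟨v, rfl⟩, rfl⟩
    obtain ⟨j, hv1, hv2⟩ : ∃ j : Fin m, v ∈ (I j.castSucc).support ∧ v ∉ (I j.succ).support := by
      by_contra h
      push Not at h
      have hall : ∀ j : Fin (m + 1), v ∈ (I j).support := fun j => by
        induction j using Fin.induction with
        | zero => rw [← SetLike.mem_coe, hfirst]; trivial
        | succ j ih => exact h j ih
      have := hall (Fin.last m)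
      rw [hlast, Scheme.IdealSheafData.support_top] at this
      rw [← SetLike.mem_coe, Closeds.coe_bot] at this
      exact this
    have hr : v ∈ Set.range (I j.castSucc).subschemeι := by
      rw [Scheme.IdealSheafData.range_subschemeι]; exact hv1
    obtain ⟨w, hw⟩ := hr
    refine Set.mem_iUnion.2 ⟨j, g v, ⟨⟨w, ?_⟩, ?_⟩, rfl⟩
    · show (I j.castSucc).subschemeι w ∈ (I j.succ).support.compl
      rw [hw]; exact hv2
    · show g ((I j.castSucc).subschemeι w) = g v
      rw [hw]
  refine (Set.finite_iUnion key).subset ?_
  rintro _ ⟨s, rfl⟩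
  exact Set.mem_iUnion.2 ⟨𝒰.idx s, s, 𝒰.covers s, rfl⟩

end GrothLib.EulerConst10
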