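import Groth.Agent.Lib.FlatCx.Semi
import Groth.Agent.Lib.FlatCx.Misc
import Groth.Agent.Lib.FlatCx.Bc
import Groth.Agent.Lib.Snapper.PolyFun
import Mathlib.Combinatorics.Nullstellensatz

/-!
# Alternating sums of fibre ranks of a finite free complex; polynomials determined on a box
-/

set_option autoImplicit false
set_option linter.all false
set_option maxHeartbeats 1000000

universe u

open CategoryTheory CategoryTheory.Limits TensorProduct

noncomputable section

namespace GrothLib.EulerConst10

variable {A : Type u} [CommRing A]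

/-- A vanishing functor has vanishing fibre ranks. -/
theorem dRank_eq_zero_of_isZero_T (L : CochainComplex (ModuleCat.{u} A) ℤ) (i : ℤ) (x : PrimeSpectrum A)
    (h : IsZero ((CohIII.TFun L i).obj (ModuleCat.of A x.asIdeal.ResidueField))) :
    CohIII.dRank L i x = 0 := by
  rw [FlatCx.isZero_T_iff] at h
  have h' : Function.Injective ((FlatCx.dBar L i).baseChange x.asIdeal.ResidueField) :=
    (LinearMap.lTensor_inj_iff_rTensor_inj x.asIdeal.ResidueField (FlatCx.dBar L i)).2 h
  rw [CohIII.dRank, FlatCx.finrank_homology_bcCx_eq_ker, LinearMap.ker_eq_bot.2 h', finrank_bot]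

/-- The alternating sum of the fibre ranks in degrees `[0, b)`. -/
def altSum (L : CochainComplex (ModuleCat.{u} A) ℤ) (b : ℕ) (x : PrimeSpectrum A) : ℤ :=
  ∑ p ∈ Finset.range b, (-1 : ℤ) ^ p * (CohIII.dRank L (p : ℤ) x : ℤ)

variable (L : CochainComplex (ModuleCat.{u} A) ℤ)

theorem fiberRank_congr {i i' j j' : ℤ} (hi : i = i') (hj : j = j') (x : PrimeSpectrum A) :
    FlatCx.fiberRank (L.d i j).hom x = FlatCx.fiberRank (L.d i' j').hom x := by
  subst hi hj
  rfl

theorem altSum_eq [∀ i, Module.Finite A (L.X i)] (b : ℕ) (x : PrimeSpectrum A) :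
    altSum L b x =
      (∑ p ∈ Finset.range b, (-1 : ℤ) ^ p *
        (Module.finrank x.asIdeal.ResidueField (x.asIdeal.ResidueField ⊗[A] L.X (p : ℤ)) : ℤ))
      - (FlatCx.fiberRank (L.d (-1) 0).hom x : ℤ)
      + (-1 : ℤ) ^ b * (FlatCx.fiberRank (L.d ((b : ℤ) - 1) b).hom x : ℤ) := by
  induction b with
  | zero => simp [altSum]
  | succ b ih =>
    have h := FlatCx.dRank_add L (b : ℤ) x
    rw [(ComplexShape.up ℤ).prev_eq' (show (ComplexShape.up ℤ).Rel ((b : ℤ) - 1) b by simp),
      (ComplexShape.up ℤ).next_eq' (show (ComplexShape.up ℤ).Rel (b : ℤ) ((b : ℤ) + 1) by simp)] at h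
    rw [altSum, Finset.sum_range_succ, ← altSum, ih, Finset.sum_range_succ]
    have h' := congrArg (fun n : ℕ => (n : ℤ)) h
    push_cast at h'
    rw [fiberRank_congr L (show ((b + 1 : ℕ) : ℤ) - 1 = (b : ℤ) by omega)
      (show ((b + 1 : ℕ) : ℤ) = (b : ℤ) + 1 by omega) x, ← h', pow_succ]
    ring

/-- **The alternating sum of the fibre ranks is locally constant** when the fibre homology vanishes
in degree `-1` and in degree `b`. -/
theorem eventually_altSum_eq [∀ i, Module.Finite A (L.X i)] [∀ i, Module.Projective A (L.X i)] (b : ℕ)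
    (h1 : ∀ x, CohIII.dRank L (-1) x = 0) (h2 : ∀ x, CohIII.dRank L (b : ℤ) x = 0) (z : PrimeSpectrum A) :
    ∀ᶠ x in nhds z, altSum L b x = altSum L b z := by
  haveI : ∀ i, Module.FinitePresentation A (L.X i) := fun i =>
    Module.finitePresentation_of_projective A (L.X i)
  have a := FlatCx.eventually_fiberRank_eq L (-1) z (Filter.Eventually.of_forall fun x => by rw [h1, h1])
  have c := FlatCx.eventually_fiberRank_eq L (b : ℤ) z (Filter.Eventually.of_forall fun x => by rw [h2, h2])
  rw [(ComplexShape.up ℤ).next_eq' (show (ComplexShape.up ℤ).Rel (-1 : ℤ) 0 by simp)] at a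
  rw [(ComplexShape.up ℤ).prev_eq' (show (ComplexShape.up ℤ).Rel ((b : ℤ) - 1) b by simp)] at c
  have d : ∀ᶠ x in nhds z, ∀ p ∈ Finset.range b,
      Module.finrank x.asIdeal.ResidueField (x.asIdeal.ResidueField ⊗[A] L.X (p : ℤ)) =
        Module.finrank z.asIdeal.ResidueField (z.asIdeal.ResidueField ⊗[A] L.X (p : ℤ)) :=
    (Finset.eventually_all _).2 fun p _ => FlatCx.eventually_finrank_fiber_eq (A := A) (P := L.X (p : ℤ)) z
  filter_upwards [a, c, d] with x ha hc hd
  rw [altSum_eq, altSum_eq, ha.2, hc.1]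
  congr 2
  exact Finset.sum_congr rfl fun p hp => by rw [hd p hp]

/-- **Functions of degree `≤ d` are determined by their values on the box `[0, d]^r`.** -/
theorem eq_of_eq_on_box {r d : ℕ} {f g : (Fin r → ℕ) → ℚ} (hf : f ∈ Snapper.polyLT r (d + 1))
    (hg : g ∈ Snapper.polyLT r (d + 1))
    (h : ∀ n : Fin r → Fin (d + 1), f (fun i => (n i : ℕ)) = g (fun i => (n i : ℕ))) : f = g := by
  classical
  obtain ⟨P, hP, hPf⟩ := Snapper.exists_totalDegree_le (Submodule.sub_mem _ hf hg)
  let S : Finset ℚ := (Finset.range (d + 1)).image (Nat.cast : ℕ → ℚ)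
  have hS : S.card = d + 1 := by
    rw [Finset.card_image_of_injective _ Nat.cast_injective, Finset.card_range]
  have hP0 : P = 0 := by
    refine MvPolynomial.eq_zero_of_eval_zero_at_prod_finset P (fun _ => S) (fun i => ?_) fun x hx => ?_
    · rw [hS]
      exact Nat.lt_succ_of_le ((MvPolynomial.degreeOf_le_totalDegree P i).trans hP)
    · choose m hm hmx using fun i => Finset.mem_image.1 (hx i)
      have e := congrFun hPf m
      simp only [Snapper.evalFun, hmx, Pi.sub_apply] at e
      rw [e, sub_eq_zero]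
      exact h fun i => ⟨m i, Finset.mem_range.1 (hm i)⟩
  refine sub_eq_zero.1 (hPf.symm.trans ?_)
  funext n
  simp [Snapper.evalFun, hP0]

end GrothLib.EulerConst10
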